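import Mathlib
import Groth.Agent.H3.HensIso
import Groth.Agent.H3.PairIdemIntegral
import Groth.Agent.H3.HensRadical
import Groth.Agent.H3.Henselization

/-!
# Integral algebras over henselian local rings (universe polymorphic)

`S : Type u` henselian local, `R : Type v` an integral `S`-algebra.  Then `R` is henselian along
`m_S R`, and if `R` is local it is a henselian local ring.
-/

set_option autoImplicit false

namespace Groth.Agent.H78.HensInt

open IsLocalRing Polynomial

universe u v

variable (S : Type u) (R : Type v) [CommRing S] [CommRing R] [Algebra S R]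
  [HenselianLocalRing S] [Algebra.IsIntegral S R]

/-- primes of an integral algebra over a local ring containing the extended maximal ideal are
maximal -/
lemma isMaximal_of_map_maximalIdeal_le {S : Type*} {R : Type*} [CommRing S] [CommRing R]
    [Algebra S R] [IsLocalRing S] [Algebra.IsIntegral S R]
    (P : Ideal R) [P.IsPrime] (hP : (maximalIdeal S).map (algebraMap S R) ≤ P) : P.IsMaximal := by
  have h3 : P.comap (algebraMap S R) = maximalIdeal S := by
    apply le_antisymm
    · exact le_maximalIdeal (Ideal.comap_ne_top _ (Ideal.IsPrime.ne_top ‹_›))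
    · exact Ideal.map_le_iff_le_comap.mp hP
  apply Ideal.isMaximal_of_isIntegral_of_isMaximal_comap (R := S)
  rw [h3]
  exact maximalIdeal.isMaximal S

theorem henselianRing_map_maximalIdeal [Nontrivial R] :
    HenselianRing R ((maximalIdeal S).map (algebraMap S R)) := by
  classical
  set φ := algebraMap S R with hφ
  set K := RingHom.ker φ with hK
  have hKtop : K ≠ ⊤ := by
    intro h
    have : (1 : S) ∈ K := by rw [h]; trivial
    rw [hK, RingHom.mem_ker, map_one] at this
    exact one_ne_zero this
  have hKm : K ≤ maximalIdeal S := le_maximalIdeal hKtop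
  haveI hQ : HenselianLocalRing (S ⧸ K) := Groth.Agent.H3.henselianLocalRing_quotient S K hKtop
  let e : (S ⧸ K) ≃+* φ.range := RingHom.quotientKerEquivRange φ
  haveI hlocS' : IsLocalRing φ.range := e.isLocalRing
  have hmaxS' : (maximalIdeal (S ⧸ K)).map (e : (S ⧸ K) →+* φ.range) = maximalIdeal φ.range := by
    have h1 : (maximalIdeal (S ⧸ K)).map (e : (S ⧸ K) →+* φ.range) =
        (maximalIdeal (S ⧸ K)).comap (e.symm : φ.range →+* (S ⧸ K)) :=
      Ideal.map_comap_of_equiv e
    rw [h1]
    haveI := maximalIdeal.isMaximal (S ⧸ K)
    exact eq_maximalIdeal (Ideal.comap_isMaximal_of_surjective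
      (e.symm : φ.range →+* (S ⧸ K)) e.symm.surjective (K := maximalIdeal (S ⧸ K)))
  have hS'1 : HenselianRing φ.range (maximalIdeal φ.range) := by
    have := Groth.Agent.H3.HensIso.henselianRing_of_ringEquiv e (maximalIdeal (S ⧸ K)) inferInstance
    rwa [hmaxS'] at this
  haveI : Algebra.IsIntegral φ.range R := by
    constructor
    intro x
    obtain ⟨P, hPm, hP⟩ := Algebra.IsIntegral.isIntegral (R := S) x
    refine ⟨P.map φ.rangeRestrict, hPm.map _, ?_⟩
    rw [eval₂_map]
    exact hP
  have hR1 := Groth.Agent.H3.henselianRing_of_isIntegral hS'1 R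
  -- identify the ideal
  have hideal : (maximalIdeal φ.range).map (algebraMap φ.range R) =
      (maximalIdeal S).map (algebraMap S R) := by
    have h2 : (maximalIdeal S).map φ.rangeRestrict = maximalIdeal φ.range := by
      have hsurj : Function.Surjective φ.rangeRestrict := φ.rangeRestrict_surjective
      have hker : RingHom.ker φ.rangeRestrict ≤ maximalIdeal S := by
        intro s hs
        apply hKm
        rw [hK, RingHom.mem_ker]
        rw [RingHom.mem_ker] at hs
        exact congrArg Subtype.val hs
      exact eq_maximalIdeal
        (Ideal.IsMaximal.map_of_surjective_of_ker_le hsurj hker)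
    rw [← h2, Ideal.map_map]
    rfl
  rwa [hideal] at hR1

/-- a local ring integral over a henselian local ring is henselian local -/
theorem henselianLocalRing_of_isIntegral (S : Type u) (R : Type v) [CommRing S] [CommRing R]
    [Algebra S R] [HenselianLocalRing S] [Algebra.IsIntegral S R] [IsLocalRing R] :
    HenselianLocalRing R := by
  have h1 := henselianRing_map_maximalIdeal S R
  have hle : maximalIdeal R ≤ ((maximalIdeal S).map (algebraMap S R)).radical := by
    rw [Ideal.radical_eq_sInf]
    refine le_sInf ?_
    rintro P ⟨hP1, hP2⟩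
    haveI := hP2
    rw [eq_maximalIdeal (isMaximal_of_map_maximalIdeal_le P hP1)]
  exact Groth.Agent.H3.henselianLocalRing_of_henselianRing _
    (Groth.Agent.H3.henselianRing_of_le_radical h1 hle)

end Groth.Agent.H78.HensInt
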