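import Mathlib
import Groth.Agent.H78.HensInt.Basic

/-!
# Integral algebras over strictly henselian local rings with at most two maximal ideals
-/

set_option autoImplicit false

namespace Groth.Agent.H78.HensInt

open IsLocalRing Polynomial

universe u v

/-- integral local algebras are local homomorphisms -/
lemma isLocalHom_of_isIntegral (S : Type*) (T : Type*) [CommRing S] [CommRing T] [Algebra S T]
    [IsLocalRing S] [IsLocalRing T] [Algebra.IsIntegral S T] : IsLocalHom (algebraMap S T) := by
  constructor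
  intro a ha
  by_contra hna
  have h1 : (maximalIdeal T).comap (algebraMap S T) = maximalIdeal S :=
    eq_maximalIdeal (Ideal.isMaximal_comap_of_isIntegral_of_isMaximal (maximalIdeal T))
  have h2 : a ∈ (maximalIdeal T).comap (algebraMap S T) := by
    rw [h1]; exact (mem_maximalIdeal a).mpr hna
  exact (mem_maximalIdeal _).mp (Ideal.mem_comap.mp h2) ha

/-- the residue field of a local integral algebra over a local ring with separably closed residue
field is separably closed -/
theorem isSepClosed_residueField (S : Type u) (T : Type v) [CommRing S] [CommRing T] [Algebra S T]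
    [IsLocalRing S] [IsLocalRing T] [Algebra.IsIntegral S T] [IsSepClosed (ResidueField S)] :
    IsSepClosed (ResidueField T) := by
  haveI := isLocalHom_of_isIntegral S T
  haveI : Algebra.IsAlgebraic (ResidueField S) (ResidueField T) := by
    constructor
    intro xbar
    obtain ⟨x, rfl⟩ := residue_surjective xbar
    have hx : IsIntegral S x := Algebra.IsIntegral.isIntegral x
    have := hx.map_of_comp_eq (residue S) (residue T) (by ext s; rfl)
    exact this.isAlgebraic
  exact Algebra.IsAlgebraic.isSepClosed (F := ResidueField S)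

section

variable {R : Type v} [CommRing R]

/-- quotient by an element lying in exactly one of the (at most) two maximal ideals is local -/
theorem isLocalRing_quotient_span (𝔪 𝔪' : Ideal R) (h𝔪 : 𝔪.IsMaximal)
    (hall : ∀ M : Ideal R, M.IsMaximal → M = 𝔪 ∨ M = 𝔪') (ε : R) (hε : ε ∈ 𝔪) (hε' : ε ∉ 𝔪') :
    IsLocalRing (R ⧸ Ideal.span {ε}) := by
  have hne : Ideal.span {ε} ≠ ⊤ := by
    intro h
    apply h𝔪.ne_top
    rw [eq_top_iff, ← h, Ideal.span_le]
    exact Set.singleton_subset_iff.mpr hε
  haveI : Nontrivial (R ⧸ Ideal.span {ε}) := Ideal.Quotient.nontrivial_iff.mpr hne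
  have key : ∀ x : R, x ∉ 𝔪 → IsUnit (Ideal.Quotient.mk (Ideal.span {ε}) x) := by
    intro x hx
    have htop : Ideal.span {x} ⊔ Ideal.span {ε} = ⊤ := by
      by_contra hcon
      obtain ⟨M, hM, hle⟩ := Ideal.exists_le_maximal _ hcon
      have hxM : x ∈ M := hle (Ideal.mem_sup_left (Ideal.subset_span rfl))
      have hεM : ε ∈ M := hle (Ideal.mem_sup_right (Ideal.subset_span rfl))
      rcases hall M hM with rfl | rfl
      · exact hx hxM
      · exact hε' hεM
    have h1 : (1 : R) ∈ Ideal.span {x} ⊔ Ideal.span {ε} := by rw [htop]; trivial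
    obtain ⟨y, hy, z, hz, hyz⟩ := Submodule.mem_sup.mp h1
    obtain ⟨a, rfl⟩ := Ideal.mem_span_singleton'.mp hy
    apply IsUnit.of_mul_eq_one (Ideal.Quotient.mk _ a)
    rw [← map_mul, ← map_one (Ideal.Quotient.mk (Ideal.span {ε})), Ideal.Quotient.eq]
    have : x * a - 1 = -z := by linear_combination hyz
    rw [this]
    exact Ideal.neg_mem_iff _ |>.mpr hz
  apply IsLocalRing.of_isUnit_or_isUnit_one_sub_self
  intro xbar
  obtain ⟨x, rfl⟩ := Ideal.Quotient.mk_surjective xbar
  by_cases hx : x ∈ 𝔪
  · right
    have h1 : (1 - x) ∉ 𝔪 := by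
      intro h
      apply h𝔪.ne_top
      rw [Ideal.eq_top_iff_one]
      have := Ideal.add_mem _ h hx
      rwa [sub_add_cancel] at this
    have := key (1 - x) h1
    rwa [map_sub, map_one] at this
  · exact Or.inl (key x hx)

end

/-- the decomposition theorem -/
theorem exists_pi_of_two_maximal (S : Type u) (R : Type v) [CommRing S] [CommRing R] [Algebra S R]
    [HenselianLocalRing S] [IsSepClosed (ResidueField S)] [Algebra.IsIntegral S R] [Nontrivial R]
    (𝔪₁ 𝔪₂ : Ideal R) (h₁ : 𝔪₁.IsMaximal) (h₂ : 𝔪₂.IsMaximal)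
    (hall : ∀ M : Ideal R, M.IsMaximal → M = 𝔪₁ ∨ M = 𝔪₂) :
    ∃ (ι : Type) (_ : Fintype ι) (T : ι → Type v) (_ : ∀ i, CommRing (T i))
      (_ : ∀ i, HenselianLocalRing (T i)),
      (∀ i, IsSepClosed (ResidueField (T i))) ∧ Nonempty (R ≃+* (∀ i, T i)) := by
  classical
  by_cases h12 : 𝔪₁ = 𝔪₂
  · -- local case
    haveI : IsLocalRing R := by
      apply IsLocalRing.of_unique_max_ideal
      refine ⟨𝔪₁, h₁, fun M hM => ?_⟩
      rcases hall M hM with h | h
      · exact h
      · rw [h, h12]
    haveI : HenselianLocalRing R := henselianLocalRing_of_isIntegral S R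
    refine ⟨Unit, inferInstance, fun _ => R, fun _ => inferInstance, fun _ => inferInstance,
      fun _ => isSepClosed_residueField S R, ⟨(RingEquiv.piUnique (fun _ : Unit => R)).symm⟩⟩
  · -- two maximal ideals
    have hsup : 𝔪₁ ⊔ 𝔪₂ = ⊤ := h₁.coprime_of_ne h₂ h12
    have h1 : (1 : R) ∈ 𝔪₁ ⊔ 𝔪₂ := by rw [hsup]; trivial
    obtain ⟨r, hr, r', hr', hrr'⟩ := Submodule.mem_sup.mp h1
    have hJ : 𝔪₁ ⊓ 𝔪₂ ≤ ((maximalIdeal S).map (algebraMap S R)).radical := by
      rw [Ideal.radical_eq_sInf]
      refine le_sInf ?_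
      rintro P ⟨hP1, hP2⟩
      haveI := hP2
      rcases hall P (isMaximal_of_map_maximalIdeal_le P hP1) with rfl | rfl
      · exact inf_le_left
      · exact inf_le_right
    have hHens : HenselianRing R (𝔪₁ ⊓ 𝔪₂) :=
      Groth.Agent.H3.henselianRing_of_le_radical (henselianRing_map_maximalIdeal S R) hJ
    -- lift the idempotent
    have hmonic : (X ^ 2 - X : R[X]).Monic := by
      apply monic_X_pow_sub
      rw [degree_X]; norm_num
    have hev : (X ^ 2 - X : R[X]).eval r ∈ 𝔪₁ ⊓ 𝔪₂ := by
      have : (X ^ 2 - X : R[X]).eval r = -(r * r') := by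
        simp only [eval_sub, eval_pow, eval_X]
        have : r' = 1 - r := by linear_combination hrr'
        rw [this]; ring
      rw [this]
      exact Ideal.neg_mem_iff _ |>.mpr
        ⟨Ideal.mul_mem_right _ _ hr, Ideal.mul_mem_left _ _ hr'⟩
    have hder : IsUnit (Ideal.Quotient.mk (𝔪₁ ⊓ 𝔪₂) ((X ^ 2 - X : R[X]).derivative.eval r)) := by
      have hd : (X ^ 2 - X : R[X]).derivative.eval r = 2 * r - 1 := by
        simp
        ring
      rw [hd]
      apply IsUnit.of_mul_eq_one (Ideal.Quotient.mk _ (2 * r - 1))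
      rw [← map_mul, ← map_one (Ideal.Quotient.mk (𝔪₁ ⊓ 𝔪₂)), Ideal.Quotient.eq]
      have : (2 * r - 1) * (2 * r - 1) - 1 = 4 * (X ^ 2 - X : R[X]).eval r := by
        simp only [eval_sub, eval_pow, eval_X]; ring
      rw [this]
      exact Ideal.mul_mem_left _ _ hev
    obtain ⟨e, he, her⟩ := hHens.is_henselian (X ^ 2 - X) hmonic r hev hder
    have he2 : e * e = e := by
      have : e ^ 2 - e = 0 := by simpa [IsRoot] using he
      linear_combination this
    have he1 : e ∈ 𝔪₁ := by
      have : e = (e - r) + r := by ring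
      rw [this]; exact Ideal.add_mem _ her.1 hr
    have he2' : 1 - e ∈ 𝔪₂ := by
      have : 1 - e = r' - (e - r) := by linear_combination -hrr'
      rw [this]; exact Ideal.sub_mem _ hr' her.2
    have hne2 : e ∉ 𝔪₂ := by
      intro h
      apply h₂.ne_top
      rw [Ideal.eq_top_iff_one]
      have := Ideal.add_mem _ he2' h
      rwa [sub_add_cancel] at this
    have hne1 : 1 - e ∉ 𝔪₁ := by
      intro h
      apply h₁.ne_top
      rw [Ideal.eq_top_iff_one]
      have := Ideal.add_mem _ h he1
      rwa [sub_add_cancel] at this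
    -- the two factors
    let ε : Bool → R := fun b => if b then e else 1 - e
    let I : Bool → Ideal R := fun b => Ideal.span {ε b}
    have hcop : Pairwise (Function.onFun IsCoprime I) := by
      have h01 : IsCoprime (I true) (I false) := by
        rw [Ideal.isCoprime_iff_sup_eq, Ideal.eq_top_iff_one]
        have : (1 : R) = e + (1 - e) := by ring
        rw [this]
        exact Ideal.add_mem _ (Ideal.mem_sup_left (Ideal.subset_span rfl))
          (Ideal.mem_sup_right (Ideal.subset_span rfl))
      intro a b hab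
      cases a <;> cases b
      · exact absurd rfl hab
      · exact h01.symm
      · exact h01
      · exact absurd rfl hab
    have hinf : ⨅ b, I b = ⊥ := by
      rw [eq_bot_iff]
      intro x hx
      rw [Ideal.mem_iInf] at hx
      obtain ⟨y, hy⟩ := Ideal.mem_span_singleton'.mp (hx true)
      obtain ⟨z, hz⟩ := Ideal.mem_span_singleton'.mp (hx false)
      have hy' : y * e = x := hy
      have hz' : z * (1 - e) = x := hz
      rw [Ideal.mem_bot]
      have h3 : e * x = x := by rw [← hy']; linear_combination y * he2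
      have h4 : e * x = 0 := by rw [← hz']; linear_combination (-z) * he2
      rw [← h3, h4]
    let Φ : R ≃+* (∀ b, R ⧸ I b) :=
      (RingEquiv.quotientBot R).symm.trans
        ((Ideal.quotEquivOfEq hinf.symm).trans (Ideal.quotientInfRingEquivPiQuotient I hcop))
    have hlocal : ∀ b, IsLocalRing (R ⧸ I b) := by
      intro b
      cases b
      · exact isLocalRing_quotient_span 𝔪₂ 𝔪₁ h₂ (fun M hM => (hall M hM).symm) (1 - e) he2' hne1
      · exact isLocalRing_quotient_span 𝔪₁ 𝔪₂ h₁ hall e he1 hne2
    have hhens : ∀ b, HenselianLocalRing (R ⧸ I b) := fun b =>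
      haveI := hlocal b
      henselianLocalRing_of_isIntegral S (R ⧸ I b)
    refine ⟨Bool, inferInstance, fun b => R ⧸ I b, fun b => inferInstance, hhens, ?_, ⟨Φ⟩⟩
    intro b
    haveI := hlocal b
    exact isSepClosed_residueField S (R ⧸ I b)

end Groth.Agent.H78.HensInt
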